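import Groth.Prelude.Def_CycDet
import Mathlib.LinearAlgebra.ExteriorPower.Basis
import Mathlib.LinearAlgebra.Matrix.Transvection
import Mathlib.LinearAlgebra.Determinant
import Mathlib.GroupTheory.Perm.Sign

/-!
# `det_κ(M)` of a vector space is its top exterior power
-/

set_option autoImplicit false

open CycDet IsLocalRing Finset Equiv

noncomputable section

namespace Groth.Agent.Lib.CycDetVec

universe u v

variable {R : Type u} [CommRing R] [IsLocalRing R] {M : Type v} [AddCommGroup M] [Module R M]
  [Module (ResidueField R) M] [IsScalarTower R (ResidueField R) M] {l : ℕ}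

local notation "κ" => ResidueField R

theorem smul_residue (r : R) (v : M) : residue R r • v = r • v := algebraMap_smul κ r v

theorem admissible (g : Fin l → M) : IsAdmissible R M g := fun i r hr => by
  rw [← smul_residue, (residue_eq_zero_iff r).2 hr, zero_smul]
  exact zero_mem _

/-- A tuple, as an admissible tuple. -/
def mkA (g : Fin l → M) : Adm R M l := ⟨g, admissible g⟩

/-- The class of a tuple. -/
def F (g : Fin l → M) : DetOfLen R M l := Submodule.Quotient.mk (sym R M (mkA g))

theorem mk_eq_zero_of_mem {x : Free R M l} (h : x ∈ relSet R M l) :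
    (Submodule.Quotient.mk x : DetOfLen R M l) = 0 :=
  (Submodule.Quotient.mk_eq_zero _).2 (Submodule.subset_span h)

theorem F_eq_zero (g : Fin l → M) (a : Fin l) (h : g a ∈ spanBefore R M g a) :
    F g = (0 : DetOfLen R M l) :=
  mk_eq_zero_of_mem (Or.inl (Or.inl ⟨mkA g, a, h, rfl⟩))

theorem F_eq_smul (g g' : Fin l → M) (a : Fin l) (c : Rˣ) (hj : ∀ j, j ≠ a → g j = g' j)
    (h : g a - (c : R) • g' a ∈ spanBefore R M g a) :
    F g = residue R (c : R) • (F g' : DetOfLen R M l) := by
  have := mk_eq_zero_of_mem (Or.inl (Or.inr ⟨mkA g,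
    mkA g', a, c, hj, h, rfl⟩))
  rwa [Submodule.Quotient.mk_sub, Submodule.Quotient.mk_smul, sub_eq_zero] at this

theorem F_adj (g : Fin l → M) (a b : Fin l) (hab : (b : ℕ) + 1 = a) :
    F (g ∘ Equiv.swap a b) = -(F g : DetOfLen R M l) := by
  have := mk_eq_zero_of_mem (Or.inr ⟨mkA g,
    mkA (g ∘ Equiv.swap a b), a, b, hab, fun r hr => by
      rw [← smul_residue r ((mkA g : Adm R M l).1 a), (residue_eq_zero_iff r).2 hr, zero_smul]; exact zero_mem _, rfl, rfl⟩)
  rw [Submodule.Quotient.mk_add, add_comm, add_eq_zero_iff_eq_neg] at this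
  exact this

theorem F_perm (g : Fin l → M) (σ : Perm (Fin l)) :
    F (g ∘ σ) = ((Perm.sign σ : ℤ) : κ) • (F g : DetOfLen R M l) := by
  rcases l with _ | n
  · rw [Subsingleton.elim σ 1]; simp
  have hσ : σ ∈ Submonoid.closure (Set.range fun i : Fin n ↦ Equiv.swap i.castSucc i.succ) := by
    rw [Perm.mclosure_swap_castSucc_succ]; trivial
  induction hσ using Submonoid.closure_induction generalizing g with
  | mem σ h =>
    obtain ⟨i, rfl⟩ := h
    dsimp only
    rw [Perm.sign_swap (Fin.castSucc_lt_succ (i := i)).ne, swap_comm, F_adj g _ _ (by simp)]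
    simp
  | one => simp
  | mul σ τ _ _ hσ hτ =>
    rw [Perm.coe_mul, ← Function.comp_assoc, hτ (g ∘ σ), hσ g, smul_smul, map_mul, Units.val_mul,
      Int.cast_mul]
    rw [mul_comm]

theorem smul_mem_spanBefore (g : Fin l → M) {a j : Fin l} (hj : j < a) (c : κ) :
    c • g j ∈ spanBefore R M g a := by
  obtain ⟨r, rfl⟩ := residue_surjective c
  rw [smul_residue r (g j)]
  exact Submodule.smul_mem _ _ (Submodule.subset_span ⟨j, hj, rfl⟩)

theorem F_add_before (g : Fin l → M) {i j : Fin l} (hij : i < j) (c : κ) :
    F (Function.update g j (g j + c • g i)) = (F g : DetOfLen R M l) := by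
  rw [F_eq_smul (R := R) (Function.update g j (g j + c • g i)) g j 1 (fun k hk => by simp [hk]) ?_]
  · simp
  · have h := smul_mem_spanBefore (Function.update g j (g j + c • g i)) hij c
    rw [Function.update_of_ne hij.ne] at h
    simpa using h

theorem F_add (g : Fin l → M) {i j : Fin l} (hij : i ≠ j) (c : κ) :
    F (Function.update g j (g j + c • g i)) = (F g : DetOfLen R M l) := by
  rcases lt_or_gt_of_ne hij with h | h
  · exact F_add_before g h c
  set σ := Equiv.swap i j
  have e : Function.update g j (g j + c • g i) =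
      (Function.update (g ∘ σ) i ((g ∘ σ) i + c • (g ∘ σ) j)) ∘ σ := by
    funext k
    simp only [Function.comp_apply, σ]
    rcases eq_or_ne k j with rfl | hkj
    · simp
    rcases eq_or_ne k i with rfl | hki
    · simp [hij, hij.symm]
    · rw [swap_apply_of_ne_of_ne hki hkj, Function.update_of_ne hkj, Function.update_of_ne hki]
      simp [swap_apply_of_ne_of_ne hki hkj]
  rw [e, F_perm, F_add_before _ h, F_perm, smul_smul]
  simp [σ, Perm.sign_swap hij]

theorem F_scale (g : Fin l → M) (a : Fin l) (x : κ) :
    F (Function.update g a (x • g a)) = x • (F g : DetOfLen R M l) := by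
  rcases eq_or_ne x 0 with rfl | hx
  · rw [zero_smul, zero_smul]
    exact F_eq_zero _ a (by simp)
  · obtain ⟨r, rfl⟩ := residue_surjective x
    obtain ⟨u, rfl⟩ := (residue_ne_zero_iff_isUnit r).1 hx
    exact F_eq_smul _ g a u (fun k hk => by simp [hk]) (by simp [smul_residue])

/-- The columns of a matrix, as a tuple of vectors. -/
def cols (b : Module.Basis (Fin l) κ M) (G : Matrix (Fin l) (Fin l) κ) : Fin l → M :=
  fun j => ∑ i, G i j • b i

theorem F_scale_all (g : Fin l → M) (D : Fin l → κ) (s : Finset (Fin l)) :
    F (fun j => if j ∈ s then D j • g j else g j) = (∏ j ∈ s, D j) • (F g : DetOfLen R M l) := by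
  induction s using Finset.induction_on with
  | empty => simp
  | insert a s ha ih =>
    have e : (fun j => if j ∈ insert a s then D j • g j else g j) =
        Function.update (fun j => if j ∈ s then D j • g j else g j) a
          (D a • (fun j => if j ∈ s then D j • g j else g j) a) := by
      funext k
      rcases eq_or_ne k a with rfl | hk
      · simp [ha]
      · simp [hk]
    rw [e, F_scale, ih, smul_smul, prod_insert ha]

theorem F_mul (b : Module.Basis (Fin l) κ M) (N : Matrix (Fin l) (Fin l) κ) :
    ∀ G, F (cols b (G * N)) = N.det • (F (cols b G) : DetOfLen R M l) := by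
  induction N using Matrix.diagonal_transvection_induction with
  | hdiag D _ =>
    intro G
    rw [Matrix.det_diagonal, ← F_scale_all (cols b G) D univ]
    congr 1
    funext j
    simp [cols, Matrix.mul_diagonal, smul_sum, smul_smul, mul_comm]
  | htransvec t =>
    intro G
    rw [Matrix.TransvectionStruct.det, one_smul, ← F_add (cols b G) t.hij t.c]
    congr 1
    funext k
    rcases eq_or_ne k t.j with rfl | hk
    · simp [cols, Matrix.TransvectionStruct.toMatrix, Matrix.mul_transvection_apply_same, smul_sum,
        smul_smul, sum_add_distrib, add_smul]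
    · simp [cols, Matrix.TransvectionStruct.toMatrix, Matrix.mul_transvection_apply_of_ne _ _ _ _ hk, hk]
  | hmul A B hA hB =>
    intro G
    rw [← Matrix.mul_assoc, hB, hA, smul_smul, Matrix.det_mul, mul_comm]

theorem F_eq_det (b : Module.Basis (Fin l) κ M) (g : Fin l → M) :
    F g = b.det g • (F b : DetOfLen R M l) := by
  have h := F_mul b (b.toMatrix g) 1
  have e1 : cols b (b.toMatrix g) = g := funext fun j => b.sum_toMatrix_smul_self g j
  have e2 : cols b 1 = ⇑b := funext fun j => by simp [cols, Matrix.one_apply]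
  rwa [one_mul, e1, e2, ← Module.Basis.det_apply] at h

theorem span_image_eq (g : Fin l → M) (s : Set (Fin l)) {x : M} (hx : x ∈ Submodule.span R (g '' s)) :
    x ∈ Submodule.span κ (g '' s) :=
  (Submodule.span_le_restrictScalars R κ (g '' s)) hx

theorem alt_eq_zero {N : Type*} [AddCommGroup N] [Module κ N] (f : M [⋀^Fin l]→ₗ[κ] N)
    (g : Fin l → M) (a : Fin l) {x : M} (hx : x ∈ spanBefore R M g a) :
    f (Function.update g a x) = 0 := by
  have hx' := span_image_eq g _ hx
  clear hx
  induction hx' using Submodule.span_induction with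
  | mem x hx =>
    obtain ⟨j, hj, rfl⟩ := hx
    have hj' : (j : ℕ) < a := hj
    exact f.map_update_self _ (fun h => by subst h; omega)
  | zero => exact f.map_update_zero g a
  | add x y _ _ hx hy => rw [f.map_update_add, hx, hy, add_zero]
  | smul c x _ hx => rw [f.map_update_smul, hx, smul_zero]

/-- The linear map on symbols given by an alternating map. -/
def lift {N : Type*} [AddCommGroup N] [Module κ N] (f : M [⋀^Fin l]→ₗ[κ] N) :
    DetOfLen R M l →ₗ[κ] N :=
  Submodule.liftQ _ (Finsupp.linearCombination κ fun e : Adm R M l => f e.1) (by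
    rw [Submodule.span_le]
    intro x hx
    rw [SetLike.mem_coe, LinearMap.mem_ker]
    rcases hx with (⟨e, a, ha, rfl⟩ | ⟨e, e', a, c, hj, hc, rfl⟩) | ⟨e, e', a, b, hab, -, he', rfl⟩
    · simp only [sym, Finsupp.linearCombination_single, one_smul]
      have := alt_eq_zero f e.1 a ha
      rwa [Function.update_eq_self] at this
    · simp only [sym, map_sub, map_smul, Finsupp.linearCombination_single, one_smul]
      have h0 := alt_eq_zero f e.1 a hc
      rw [sub_eq_add_neg, f.map_update_add, Function.update_eq_self, f.map_update_neg,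
        ← smul_residue, f.map_update_smul,
        show Function.update e.1 a (e'.1 a) = e'.1 from funext fun j => by
          rcases eq_or_ne j a with rfl | hja
          · simp
          · simp [hja, hj j hja]] at h0
      rw [← sub_eq_add_neg] at h0
      exact h0
    · simp only [sym, map_add, Finsupp.linearCombination_single, one_smul, he']
      rw [f.map_swap _ (by rintro rfl; omega), add_neg_cancel])

theorem lift_F {N : Type*} [AddCommGroup N] [Module κ N] (f : M [⋀^Fin l]→ₗ[κ] N) (g : Fin l → M) :
    lift f (F g : DetOfLen R M l) = f g := by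
  simp only [lift, F, Submodule.liftQ_apply]
  rw [sym]
  exact (Finsupp.linearCombination_single _ _ _).trans (one_smul _ _)

theorem exists_equiv (b : Module.Basis (Fin l) κ M) :
    ∃ Φ : DetOfLen R M l ≃ₗ[κ] (⋀[κ]^l M), ∀ e : Adm R M l,
      Φ (Submodule.Quotient.mk (sym R M e)) = exteriorPower.ιMulti κ l e.1 := by
  let fwd : DetOfLen R M l →ₗ[κ] ⋀[κ]^l M := lift (exteriorPower.ιMulti κ l)
  let bwd : (⋀[κ]^l M) →ₗ[κ] DetOfLen R M l := exteriorPower.alternatingMapLinearEquiv
    ((LinearMap.toSpanSingleton κ (DetOfLen R M l) (F b)).compAlternatingMap b.det)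
  have hb : ∀ g, bwd (exteriorPower.ιMulti κ l g) = (F g : DetOfLen R M l) := by
    intro g
    simp [bwd, ← F_eq_det b g]
  refine ⟨LinearEquiv.ofLinearMap fwd bwd ?_ ?_, fun e => lift_F _ e.1⟩
  · refine exteriorPower.linearMap_ext ?_
    ext g
    simp [hb, fwd, lift_F]
  · refine Submodule.linearMap_qext _ (Finsupp.lhom_ext fun e c => ?_)
    have : (Submodule.Quotient.mk (Finsupp.single e c) : DetOfLen R M l) = c • F e.1 := by
      show _ = c • (Submodule.Quotient.mk (Finsupp.single e (1 : κ)) : DetOfLen R M l)
      rw [← Submodule.Quotient.mk_smul, Finsupp.smul_single, smul_eq_mul, mul_one]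
    simp [this, fwd, lift_F, hb]

end Groth.Agent.Lib.CycDetVec
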